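import Mathlib
import Groth.Agent.H8.QCohStalk
import Groth.Agent.H71.QCoh.SupportProper

/-!
# Torsion stalks and density of the complement of the support (helper70; for S4831)

On a Noetherian scheme all of whose local rings are domains, a quasi-coherent module of finite type
has all its stalks torsion iff the complement of its support is dense.
-/

set_option autoImplicit false
set_option linter.style.haveILetI false
set_option linter.unusedSectionVars false
universe u

open AlgebraicGeometry CategoryTheory TopologicalSpace Topology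

namespace Groth.Agent.H70.TorsFib

section Top

variable {Y : Type*} [TopologicalSpace Y]

/-- every point of a sober space has a generization which is the generic point of its irreducible
component and has no proper generization. -/
theorem exists_maximal_generization [QuasiSober Y] [T0Space Y] (x : Y) :
    ∃ η : Y, η ⤳ x ∧ IsGenericPoint η (irreducibleComponent x) ∧ ∀ y' : Y, y' ⤳ η → y' = η := by
  obtain ⟨η, hη⟩ := QuasiSober.sober (isIrreducible_irreducibleComponent (x := x))
    isClosed_irreducibleComponent
  refine ⟨η, ?_, hη, ?_⟩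
  · rw [specializes_iff_mem_closure, hη.def]
    exact mem_irreducibleComponent
  · intro y' hy'
    have h1 : irreducibleComponent x ⊆ closure {y'} := by
      rw [← hη.def]
      exact (specializes_iff_closure_subset.mp hy')
    have h2 : closure {y'} = irreducibleComponent x :=
      eq_irreducibleComponent (isIrreducible_singleton.closure).isPreirreducible h1
    have h3 : IsGenericPoint y' (irreducibleComponent x) := h2
    exact h3.eq hη

/-- in a Noetherian sober space a dense open set contains the generic point of every irreducible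
component. -/
theorem generic_mem_of_dense [NoetherianSpace Y] {U : Set Y} (hU : IsOpen U)
    (hd : Dense U) (x : Y) {η : Y} (hη : IsGenericPoint η (irreducibleComponent x)) : η ∈ U := by
  obtain ⟨o, ho, hne, hsub⟩ :=
    NoetherianSpace.exists_isOpen_nonempty_subset_irreducibleComponent (irreducibleComponent x)
      (irreducibleComponent_mem_irreducibleComponents x)
  obtain ⟨z, hzo, hzU⟩ := hd.inter_open_nonempty o ho hne
  have hz : z ∈ closure {η} := by
    rw [hη.def]
    exact hsub hzo
  have : η ⤳ z := specializes_iff_mem_closure.mpr hz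
  exact this.mem_open hU hzU

end Top

variable {Y : Scheme.{u}}

/-- the local ring at a point with no proper generization, if a domain, is a field. -/
theorem isField_stalk_of_no_generization (η : Y) (hη : ∀ y' : Y, y' ⤳ η → y' = η)
    [IsDomain (Y.presheaf.stalk η)] : IsField (Y.presheaf.stalk η) := by
  rw [IsLocalRing.isField_iff_maximalIdeal_eq]
  have hinj : Function.Injective (Y.fromSpecStalk η).base :=
    (Y.fromSpecStalk η).isEmbedding.injective
  have hsub : ∀ a b : PrimeSpectrum (Y.presheaf.stalk η), a = b := by
    intro a b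
    apply hinj
    have ha : (Y.fromSpecStalk η).base a ∈ Set.range (Y.fromSpecStalk η).base := ⟨a, rfl⟩
    have hb : (Y.fromSpecStalk η).base b ∈ Set.range (Y.fromSpecStalk η).base := ⟨b, rfl⟩
    rw [Scheme.range_fromSpecStalk] at ha hb
    rw [hη _ ha, hη _ hb]
  have := hsub ⟨IsLocalRing.maximalIdeal _, inferInstance⟩ ⟨⊥, Ideal.isPrime_bot⟩
  exact congrArg PrimeSpectrum.asIdeal this

/-- a torsion module over a field is zero. -/
theorem subsingleton_of_torsion_eq_top_of_isField {K N : Type*} [CommRing K] [AddCommGroup N]
    [Module K N] (hK : IsField K) (h : Submodule.torsion K N = ⊤) : Subsingleton N := by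
  letI := hK.toField
  refine ⟨fun a b => ?_⟩
  have h1 : ∀ n : N, n = 0 := by
    intro n
    have hn : n ∈ Submodule.torsion K N := by rw [h]; trivial
    rw [Submodule.mem_torsion_iff] at hn
    obtain ⟨⟨c, hc⟩, hcn⟩ := hn
    have hc0 : c ≠ 0 := nonZeroDivisors.ne_zero hc
    have : c • n = 0 := hcn
    exact (smul_eq_zero.mp this).resolve_left hc0
  rw [h1 a, h1 b]

variable (G : Y.Modules)

/-- if all stalks are torsion (and the local rings are domains) then the complement of the support
is dense. -/
theorem dense_compl_support_of_torsion (hint : ∀ y : Y, IsDomain (Y.presheaf.stalk y))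
    (h : ∀ y : Y, Submodule.torsion (Y.presheaf.stalk y) (G.presheaf.stalk y) = ⊤) :
    Dense (CohB1.support G)ᶜ := by
  rw [dense_iff_inter_open]
  intro V hV ⟨x, hx⟩
  obtain ⟨η, hηx, -, hmax⟩ := exists_maximal_generization x
  haveI := hint η
  refine ⟨η, hηx.mem_open hV hx, ?_⟩
  change ¬ ¬ Subsingleton (G.presheaf.stalk η)
  rw [not_not]
  exact subsingleton_of_torsion_eq_top_of_isField (isField_stalk_of_no_generization η hmax) (h η)

/-- if the complement of the (closed) support is dense, then all stalks are torsion (on a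
Noetherian scheme whose local rings are domains). -/
theorem torsion_eq_top_of_dense_compl_support [G.IsQuasicoherent] [NoetherianSpace Y]
    (hint : ∀ y : Y, IsDomain (Y.presheaf.stalk y)) (hcl : IsClosed (CohB1.support G))
    (hd : Dense (CohB1.support G)ᶜ) (y : Y) :
    Submodule.torsion (Y.presheaf.stalk y) (G.presheaf.stalk y) = ⊤ := by
  obtain ⟨η, hηy, hgen, -⟩ := exists_maximal_generization y
  have hηU : η ∈ (CohB1.support G)ᶜ := generic_mem_of_dense hcl.isOpen_compl hd y hgen
  have hGη : Subsingleton (G.presheaf.stalk η) := not_not.mp hηU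
  obtain ⟨_, ⟨W, hW : IsAffineOpen W, rfl⟩, hyW, -⟩ :=
    Y.isBasis_affineOpens.exists_subset_of_mem_open (Set.mem_univ y) isOpen_univ
  have hηW : η ∈ W := hηy.mem_open W.isOpen hyW
  haveI := hint y
  rw [eq_top_iff]
  intro n _
  rw [Submodule.mem_torsion_iff]
  -- write `n` as a fraction
  obtain ⟨⟨m, s⟩, hms⟩ := by
    letI := Groth.Agent.H8.stalkModule G hyW
    haveI := Groth.Agent.H8.isLocalizedModule_germₗ G hW hyW
    exact IsLocalizedModule.surj (hW.primeIdealOf ⟨y, hyW⟩).asIdeal.primeCompl
      (Groth.Agent.H8.germₗ G hyW) n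
  have hms' : (Y.presheaf.germ W y hyW).hom s.1 • n = G.presheaf.germ W y hyW m := hms
  -- `m` dies at `η`
  obtain ⟨r, hr⟩ : ∃ r : (hW.primeIdealOf ⟨η, hηW⟩).asIdeal.primeCompl, r.1 • m = 0 := by
    letI := Groth.Agent.H8.stalkModule G hηW
    haveI := Groth.Agent.H8.isLocalizedModule_germₗ G hW hηW
    have h0 : Groth.Agent.H8.germₗ G hηW m = 0 := Subsingleton.elim _ _
    obtain ⟨r, hr⟩ := (IsLocalizedModule.eq_zero_iff (hW.primeIdealOf ⟨η, hηW⟩).asIdeal.primeCompl
      (Groth.Agent.H8.germₗ G hηW)).mp h0
    exact ⟨r, hr⟩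
  -- the germ of `r` at `y` is nonzero
  have hr0 : (Y.presheaf.germ W y hyW).hom r.1 ≠ 0 := by
    intro h0
    have h1 : (Y.presheaf.germ W η hηW).hom r.1 = 0 := by
      have := Y.presheaf.germ_stalkSpecializes hyW hηy
      rw [← this]
      change (Y.presheaf.stalkSpecializes hηy).hom ((Y.presheaf.germ W y hyW).hom r.1) = 0
      rw [h0, map_zero]
    have hu : IsUnit ((Y.presheaf.germ W η hηW).hom r.1) := by
      by_contra hnu
      exact r.2 ((Groth.Agent.H8.mem_primeIdealOf_iff hW hηW r.1).mpr hnu)
    rw [h1] at hu
    exact not_isUnit_zero hu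
  have hs0 : (Y.presheaf.germ W y hyW).hom s.1 ≠ 0 := by
    have hu : IsUnit ((Y.presheaf.germ W y hyW).hom s.1) := by
      by_contra hnu
      exact s.2 ((Groth.Agent.H8.mem_primeIdealOf_iff hW hyW s.1).mpr hnu)
    exact hu.ne_zero
  refine ⟨⟨(Y.presheaf.germ W y hyW).hom r.1 * (Y.presheaf.germ W y hyW).hom s.1,
    mem_nonZeroDivisors_of_ne_zero (mul_ne_zero hr0 hs0)⟩, ?_⟩
  change ((Y.presheaf.germ W y hyW).hom r.1 * (Y.presheaf.germ W y hyW).hom s.1) • n = 0
  rw [mul_smul, hms']
  have := Groth.Agent.H8.germ_smul G hyW r.1 m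
  rw [← this, hr, map_zero]

/-- **Torsion stalks iff dense complement of the support.** -/
theorem torsion_iff_dense_compl_support [G.IsQuasicoherent] [NoetherianSpace Y]
    (hint : ∀ y : Y, IsDomain (Y.presheaf.stalk y)) (hcl : IsClosed (CohB1.support G)) :
    (∀ y : Y, Submodule.torsion (Y.presheaf.stalk y) (G.presheaf.stalk y) = ⊤) ↔
      Dense (CohB1.support G)ᶜ :=
  ⟨dense_compl_support_of_torsion G hint, torsion_eq_top_of_dense_compl_support G hint hcl⟩

end Groth.Agent.H70.TorsFib
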