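import Mathlib
import Groth.Agent.H70.TorsFib.Stalk
import Groth.Agent.H70.RegLocus.Noeth
import Groth.Agent.H44.PullbackFT
import Groth.Agent.H99.CompDimsSupp
import Groth.Agent.S3427

/-!
# Local constructibility of the locus of torsion fibres (helper70; for S4831)
-/

set_option autoImplicit false
set_option linter.style.haveILetI false
set_option linter.unusedSectionVars false
universe u

open AlgebraicGeometry CategoryTheory TopologicalSpace Topology

namespace Groth.Agent.H70.TorsFib

/-- density of a preimage under an embedding. -/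
theorem dense_preimage_iff_of_isEmbedding {A B : Type*} [TopologicalSpace A] [TopologicalSpace B]
    {g : A → B} (hg : IsEmbedding g) (T : Set B) :
    Dense (g ⁻¹' T) ↔ Set.univ ∩ Set.range g ⊆ closure (T ∩ Set.range g) := by
  have h1 := hg.isInducing.closure_eq_preimage_closure_image (g ⁻¹' T)
  rw [Set.image_preimage_eq_inter_range] at h1
  rw [dense_iff_closure_eq, h1, Set.univ_inter]
  constructor
  · rintro h _ ⟨a, rfl⟩
    have : a ∈ g ⁻¹' closure (T ∩ Set.range g) := by rw [h]; trivial
    exact this
  · intro h
    rw [Set.eq_univ_iff_forall]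
    intro a
    exact h ⟨a, rfl⟩

variable {X S : Scheme.{u}} (f : X ⟶ S)

theorem range_fiberι (s : S) : Set.range (f.fiberι s).base = f.base ⁻¹' {s} := by
  ext x
  constructor
  · rintro ⟨t, rfl⟩
    exact Groth.Agent.H48.CycFib.map_fiberι f s t
  · intro hx
    exact Groth.Agent.H99.FibEqui.mem_range_fiberι f s x hx

instance isNoetherian_fiber [LocallyOfFiniteType f] [QuasiCompact f] (s : S) :
    IsNoetherian (f.fiber s) :=
  haveI : IsLocallyNoetherian (f.fiber s) := by
    unfold Scheme.Hom.fiber
    infer_instance
  { }

/-- **Local constructibility of the set of points with torsion fibre module.** -/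
theorem isLocallyConstructible_setOf_fibre_torsion [IsLocallyNoetherian S]
    [LocallyOfFiniteType f] [QuasiCompact f] (F : X.Modules) [Coh.IsQCoh F] (hF : CohB1.IsFP F)
    (hint : ∀ (s : S) (x : ↥(f.fiber s)), IsDomain ((f.fiber s).presheaf.stalk x)) :
    Topology.IsLocallyConstructible {s : S | ∀ x : ↥(f.fiber s),
      Submodule.torsion ((f.fiber s).presheaf.stalk x)
        (((Scheme.Modules.pullback (f.fiberι s)).obj F).presheaf.stalk x) = ⊤} := by
  haveI : SheafOfModules.IsFinitePresentation (R := X.ringCatSheaf) F := hF
  haveI : SheafOfModules.IsFiniteType (R := X.ringCatSheaf) F := inferInstance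
  haveI : F.IsQuasicoherent := ‹Coh.IsQCoh F›
  haveI : IsLocallyNoetherian X := LocallyOfFiniteType.isLocallyNoetherian f
  haveI : LocallyOfFinitePresentation f :=
    Groth.Agent.H70.RegLocus.locallyOfFinitePresentation_of_isLocallyNoetherian f
  haveI : QuasiSeparated f := inferInstance
  have hZ : Topology.IsLocallyConstructible (CohB1.support F)ᶜ :=
    Groth.Agent.H17.isLocallyConstructible_compl
      (Groth.Agent.H99.CompDimsSupp.isLocallyConstructible_support F hF)
  have hmain := Groth.Agent.S3427.result f (CohB1.support F)ᶜ Set.univ hZ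
    Topology.IsLocallyConstructible.univ (Set.subset_univ _)
  convert hmain using 1
  ext s
  simp only [Set.mem_ofPred_eq]
  have hsupp := Groth.Agent.S4357.result (f.fiberι s) F
    (inferInstance : CohB1.IsFT F)
  haveI : ((Scheme.Modules.pullback (f.fiberι s)).obj F).IsQuasicoherent :=
    Groth.Agent.H44.isQuasicoherent_pullback (f.fiberι s) F
  haveI : SheafOfModules.IsFiniteType (R := (f.fiber s).ringCatSheaf)
      ((Scheme.Modules.pullback (f.fiberι s)).obj F) :=
    Groth.Agent.H44.isFiniteType_pullback (f.fiberι s) F
  have hcl : IsClosed (CohB1.support ((Scheme.Modules.pullback (f.fiberι s)).obj F)) :=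
    Groth.Agent.H71.QCoh.isClosed_support _
  rw [torsion_iff_dense_compl_support _ (hint s) hcl, hsupp, ← Set.preimage_compl,
    dense_preimage_iff_of_isEmbedding (f.fiberι s).isEmbedding, Scheme.Hom.range_fiberι]

end Groth.Agent.H70.TorsFib
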